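import Cfsg.Agent.Lib.GlauberAut.Fusion
import Cfsg.Agent.Lib.ZStar.Unique
import Cfsg.Agent.Lib.ZStar.Apply
import Cfsg.Agent.Lib.PGroup.Basic

/-!
# Glauberman's theorem on automorphisms centralising a Sylow 2-subgroup

* `commute_of_fix_sylow`: a 2-group of automorphisms fixing `S` pointwise is abelian.
* `normal_complement_of_fix_sylow`: the group of automorphisms fixing `S` pointwise has an abelian
  Sylow 2-subgroup and a normal 2-complement.
* `isSolvable_of_fix_sylow`: it is solvable, given the solvability of groups of odd order.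
-/

set_option autoImplicit false
open Cfsg

namespace Cfsg.Agent.GlauberAut

open Subgroup SemidirectProduct
open scoped commutatorElement

universe u

variable {G : Type u} [Group G] [Finite G]

theorem finite_mulAut : Finite (MulAut G) :=
  Finite.of_injective (fun f : MulAut G => (f : G → G)) DFunLike.coe_injective

variable (T : Subgroup (MulAut G))

/-- The semidirect product by a group of automorphisms. -/
abbrev Semi : Type u := G ⋊[T.subtype] T

theorem conj_inl (a : T) (g : G) :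
    (inr a : Semi T) * inl g * (inr a)⁻¹ = inl ((a : MulAut G) g) := by
  rw [← map_inv]; exact (inl_aut (φ := T.subtype) a g).symm

theorem finite_semi : Finite (Semi T) :=
  haveI := finite_mulAut (G := G)
  Finite.of_equiv _ SemidirectProduct.equivProd.symm

variable (hO : pPrimeCore 2 G = ⊥) (S : Sylow 2 G) (hT : IsPGroup 2 T)
  (hTS : ∀ a ∈ T, ∀ s ∈ (S : Subgroup G), a s = s)
include hO hT hTS

theorem killed {a : T} (hcen : ∀ b : T, a * b = b * a)
    (hfix : Fixed (inl : G →* Semi T).range (inr : T →* Semi T).range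
      ((S : Subgroup G).map (inl : G →* Semi T)) (inr a)) : a = 1 := by
  haveI : Fact (Nat.Prime 2) := ⟨Nat.prime_two⟩
  haveI := finite_mulAut (G := G)
  haveI := finite_semi T
  by_contra ha
  obtain ⟨j, hj⟩ := IsPGroup.iff_orderOf.mp hT a
  obtain ⟨l, rfl⟩ : ∃ l, j = l + 1 := ⟨j - 1, (Nat.succ_pred_eq_of_ne_zero (by
    rintro rfl; exact ha (orderOf_eq_one_iff.1 hj))).symm⟩
  set b := a ^ 2 ^ l with hb
  have hb2 : orderOf b = 2 := by
    rw [hb, orderOf_pow' _ (by positivity : 2 ^ l ≠ 0), hj, pow_succ, Nat.gcd_eq_right (Dvd.intro _ rfl),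
      Nat.mul_div_cancel_left _ (by positivity)]
  set Gl := (inl : G →* Semi T).range with hGl
  set Tl := (inr : T →* Semi T).range with hTl
  haveI : Gl.Normal := by
    rw [hGl, range_inl_eq_ker_rightHom]; infer_instance
  have hsplit : ∀ x : Semi T, x = inl x.left * inr x.right := fun x => (inl_left_mul_inr_right x).symm
  have htop : Gl ⊔ Tl = ⊤ := eq_top_iff.2 fun x _ => by
    rw [hsplit x]; exact mul_mem_sup ⟨_, rfl⟩ ⟨_, rfl⟩
  have hdisj : Tl ⊓ Gl = ⊥ := by
    rw [eq_bot_iff]
    rintro x ⟨⟨c, rfl⟩, g, hg⟩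
    have := congrArg SemidirectProduct.right hg
    rw [right_inl, right_inr] at this
    rw [← this, map_one]; exact mem_bot.mpr rfl
  set Sl := (S : Subgroup G).map (inl : G →* Semi T) with hSl
  have hcommS : ∀ s ∈ Sl, ∀ c ∈ Tl, s * c = c * s := by
    rintro _ ⟨s, hs, rfl⟩ _ ⟨c, rfl⟩
    have := conj_inl T c s
    rw [hTS _ c.2 s hs, mul_inv_eq_iff_eq_mul] at this
    exact this.symm
  have hQp : IsPGroup 2 (Sl ⊔ Tl : Subgroup (Semi T)) := by
    refine (S.isPGroup'.map _).to_sup_of_normal_left' (IsPGroup.of_surjective hT _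
      (inr : T →* Semi T).rangeRestrict_surjective) fun c hc => ?_
    refine Transfer.map_conj_eq_iff_mem_normalizer.mp (eq_of_le_of_card_ge ?_ (Transfer.card_map_conj _ _).ge)
    rintro _ ⟨s, hs, rfl⟩
    show c * s * c⁻¹ ∈ Sl
    rwa [← hcommS s hs c hc, mul_inv_cancel_right]
  obtain ⟨P, hP⟩ := hQp.exists_le_sylow
  have hPG : (P : Subgroup (Semi T)) ⊓ Gl = Sl := by
    refine le_antisymm ?_ (le_inf (le_sup_left.trans hP) (Subgroup.map_le_range _ _))
    rintro x ⟨hx, g, rfl⟩
    refine ⟨g, ?_, rfl⟩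
    rw [← S.is_maximal' (P.isPGroup'.comap_of_injective (inl : G →* Semi T) inl_injective)
      (fun s hs => hP (mem_sup_left ⟨s, hs, rfl⟩))]
    exact hx
  have hbfix : Fixed Gl Tl ((P : Subgroup (Semi T)) ⊓ Gl) (inr b) := by
    rw [hPG]
    intro D n h1 h2 h3 h4 h5
    rw [hb, map_pow, ← conj_pow, hfix D n h1 h2 h3 h4 h5]
  have hiso := isolated_of_fixed Gl Tl P (le_sup_right.trans hP) hdisj htop (hPG ▸ hcommS)
    (t := inr b) ⟨b, rfl⟩ (by
      rintro _ ⟨c, rfl⟩
      rw [← map_mul, ← map_mul, hb, (Commute.pow_left (hcen c) _).eq]) hbfix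
  have hto : orderOf (inr b : Semi T) = 2 := by
    rw [orderOf_injective (inr : T →* Semi T) inr_injective, hb2]
  have hOX : pPrimeCore 2 (Semi T) = ⊥ := by
    haveI := Cores.pPrimeCore_normal 2 (Semi T)
    have h1 : pPrimeCore 2 Gl = ⊥ := by
      rw [← Cores.pPrimeCore_map_mulEquiv (MonoidHom.ofInjective inl_injective), hO, Subgroup.map_bot]
    have h2 : pPrimeCore 2 (Semi T) ⊓ Gl = ⊥ := by
      rw [← Cores.pPrimeCore_map_subtype, h1, Subgroup.map_bot]
    rw [eq_bot_iff, ← h2]
    refine le_inf le_rfl fun x hx => ?_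
    rw [hGl, range_inl_eq_ker_rightHom, MonoidHom.mem_ker]
    obtain ⟨k, hk⟩ := IsPGroup.iff_orderOf.mp hT (rightHom x)
    refine orderOf_eq_one_iff.1 (Nat.eq_one_of_dvd_coprimes
      ((Cores.coprime_card_pPrimeCore (G := Semi T) 2).pow_right k)
      ((orderOf_map_dvd _ x).trans (Subgroup.orderOf_dvd_natCard _ hx)) hk.dvd)
  have hc := ZStar.isolated_mem_center ZStar.uniqueInvolution
    (ZStar.isolated_of_sylow P hto (hP (mem_sup_right ⟨b, rfl⟩)) hiso) hOX
  have hb1 : b = 1 := Subtype.ext (MulEquiv.ext fun g => inl_injective (φ := T.subtype) (by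
    rw [← conj_inl T b g, ← mem_center_iff.1 hc (inl g), mul_inv_cancel_right]; rfl))
  rw [hb1, orderOf_one] at hb2
  exact absurd hb2 (by norm_num)

omit hO hT hTS in
theorem shift_eq {D : Subgroup (Semi T)} {n : Semi T}
    (hn : n ∈ (inl : G →* Semi T).range) (a : T) :
    ∃ g : G, n * inr a * n⁻¹ * (inr a)⁻¹ = inl g := by
  obtain ⟨h, rfl⟩ := hn
  exact ⟨h * (a : MulAut G) h⁻¹, by
    rw [map_mul, ← conj_inl, map_inv]; group⟩

theorem commute_of_fix_sylow : ∀ a b : T, a * b = b * a := by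
  haveI : Fact (Nat.Prime 2) := ⟨Nat.prime_two⟩
  haveI := finite_mulAut (G := G)
  suffices h : commutator T = ⊥ by
    intro a b
    rw [← commutatorElement_eq_one_iff_mul_comm]
    have : ⁅a, b⁆ ∈ commutator T := commutator_mem_commutator (mem_top a) (mem_top b)
    rwa [h, mem_bot] at this
  by_contra hne
  obtain ⟨⟨t, ht⟩, ht1⟩ := ne_bot_iff_exists_ne_one.1
    (PGroup.inf_center_ne_bot hT (N := commutator T) hne)
  refine ht1 (Subtype.ext (killed T hO S hT hTS (fun b => (mem_center_iff.1 ht.2 b).symm) ?_))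
  intro D n hD hnG hnD hsh _
  let V := D ⊓ centralizer (D : Set (Semi T))
  let f : T →* V :=
    { toFun := fun a => ⟨n * inr a * n⁻¹ * (inr a)⁻¹, hsh _ ⟨a, rfl⟩⟩
      map_one' := Subtype.ext (by simp)
      map_mul' := fun a b => Subtype.ext (by
        simp only [map_mul, Subgroup.coe_mul]
        refine shifts_map _ hsh ⟨a, rfl⟩ ⟨b, rfl⟩ fun d hd => ?_
        obtain ⟨s, hs, rfl⟩ := hD hd
        have := conj_inl T a s
        rw [hTS _ a.2 s hs, mul_inv_eq_iff_eq_mul] at this
        exact this) }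
  have hker : commutator T ≤ f.ker := by
    rw [commutator_def, commutator_le]
    intro a _ b _
    rw [MonoidHom.mem_ker, map_commutatorElement, commutatorElement_eq_one_iff_mul_comm]
    exact Subtype.ext ((mem_centralizer_iff.1 (f b).2.2 _ (f a).2.1))
  have := congrArg Subtype.val (MonoidHom.mem_ker.1 (hker ht.1))
  exact mul_inv_eq_one.1 this

/-- An automorphism fixing `S` pointwise which normalises `T` centralises it. -/
theorem commute_of_normalizes {c : MulAut G} (hcS : ∀ s ∈ (S : Subgroup G), c s = s)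
    (hcT : ∀ a, a ∈ T ↔ c * a * c⁻¹ ∈ T) {a : MulAut G} (ha : a ∈ T) : c * a = a * c := by
  haveI := finite_mulAut (G := G)
  have hab := commute_of_fix_sylow T hO S hT hTS
  let fg : T ≃* T :=
    { toFun := fun b => ⟨c * b * c⁻¹, (hcT b).1 b.2⟩
      invFun := fun b => ⟨c⁻¹ * b * c, (hcT _).2 (by simpa [mul_assoc] using b.2)⟩
      left_inv := fun b => Subtype.ext (by simp [mul_assoc])
      right_inv := fun b => Subtype.ext (by simp [mul_assoc])
      map_mul' := fun b d => Subtype.ext (by simp [mul_assoc]) }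
  let γ : Semi T ≃* Semi T := SemidirectProduct.congr c fg (fun b => MulEquiv.ext fun g => by
    show c ((b : MulAut G) g) = (c * (b : MulAut G) * c⁻¹) (c g)
    rw [MulAut.mul_apply, MulAut.mul_apply, MulAut.inv_apply_self])
  have hγl : ∀ g : G, γ (inl g) = inl (c g) := fun g => by
    ext <;> simp [γ, SemidirectProduct.congr]
  have hγr : ∀ b : T, γ (inr b) = inr (fg b) := fun b => by
    ext <;> simp [γ, SemidirectProduct.congr]
  set t : T := ⟨a, ha⟩
  have hu : fg t * t⁻¹ = 1 := by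
    refine killed T hO S hT hTS (hab _) ?_
    intro D n hD hnG hnD hsh hcent
    have hDγ : ∀ d ∈ D, γ d = d := fun d hd => by
      obtain ⟨s, hs, rfl⟩ := hD hd
      rw [hγl, hcS s hs]
    have hnorm : ∀ d ∈ D, n * d * n⁻¹ ∈ D := fun d hd => (mem_normalizer_iff.1 hnD d).1 hd
    set e := n⁻¹ * γ n with he
    have heG : e ∈ (inl : G →* Semi T).range := by
      obtain ⟨g, rfl⟩ := hnG
      exact ⟨g⁻¹ * c g, by rw [map_mul, map_inv, he, hγl]⟩
    have heC : e ∈ centralizer (D : Set (Semi T)) := mem_centralizer_iff.2 fun d hd => by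
      have h := hDγ _ (hnorm d hd)
      rw [map_mul, map_mul, map_inv, hDγ d hd] at h
      have h2 : γ n * d = n * d * n⁻¹ * γ n := mul_inv_eq_iff_eq_mul.1 h
      rw [he, show d * (n⁻¹ * γ n) = n⁻¹ * (n * d * n⁻¹ * γ n) by group, ← h2, mul_assoc]
    -- the shift of `n` is `γ`-invariant
    have hcommD : ∀ d ∈ D, ∀ b : T, d * inr b = inr b * d := by
      intro d hd b
      obtain ⟨s, hs, rfl⟩ := hD hd
      have := conj_inl T b s
      rw [hTS _ b.2 s hs, mul_inv_eq_iff_eq_mul] at this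
      exact this.symm
    have hconj' : ∀ b : T, e * inr (fg b) * e⁻¹ * (inr (fg b))⁻¹ =
        n⁻¹ * ((n * inr b * n⁻¹ * (inr b)⁻¹) * (n * inr (fg b) * n⁻¹ * (inr (fg b))⁻¹)⁻¹) * n := by
      intro b
      set z := n * inr b * n⁻¹ * (inr b)⁻¹ with hz
      have hzD : z ∈ D := (hsh _ ⟨b, rfl⟩).1
      have h1 : γ n * inr (fg b) * (γ n)⁻¹ * (inr (fg b))⁻¹ = z := by
        have := hDγ z hzD
        rw [hz, map_mul, map_mul, map_mul, map_inv, map_inv, hγr] at this
        rw [hz]; exact this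
      rw [he, ← h1]
      group
    have hshe : Shifts (inr : T →* Semi T).range D e := by
      rintro _ ⟨b', rfl⟩
      obtain ⟨b, rfl⟩ := fg.surjective b'
      rw [hconj']
      have hzV := mul_mem (hsh _ (⟨b, rfl⟩ : inr b ∈ (inr : T →* Semi T).range))
        (inv_mem (hsh _ (⟨fg b, rfl⟩ : inr (fg b) ∈ (inr : T →* Semi T).range)))
      refine mem_inf.2 ⟨?_, mem_centralizer_iff.2 fun d hd => ?_⟩
      · have := (mem_normalizer_iff.1 (inv_mem hnD) _).1 hzV.1
        rwa [inv_inv] at this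
      · have h := mem_centralizer_iff.1 hzV.2 _ (hnorm d hd)
        generalize n * inr b * n⁻¹ * (inr b)⁻¹ * (n * inr (fg b) * n⁻¹ * (inr (fg b))⁻¹)⁻¹ = w at h ⊢
        calc d * (n⁻¹ * w * n) = n⁻¹ * (n * d * n⁻¹ * w) * n := by group
          _ = n⁻¹ * (w * (n * d * n⁻¹)) * n := by rw [h]
          _ = n⁻¹ * w * n * d := by group
    have h1 := hcent e heG heC hshe _ ⟨fg t, rfl⟩
    have h2 := hconj' t
    rw [h1, mul_inv_cancel_right, mul_inv_cancel] at h2
    have h3 : n * inr t * n⁻¹ * (inr t)⁻¹ = n * inr (fg t) * n⁻¹ * (inr (fg t))⁻¹ := by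
      rw [← mul_inv_eq_one]
      calc _ = n * 1 * n⁻¹ := by rw [h2]; group
        _ = 1 := by group
    have h5 := shifts_map _ hsh (⟨fg t * t⁻¹, rfl⟩ : inr (fg t * t⁻¹) ∈ (inr : T →* Semi T).range)
      ⟨t, rfl⟩ fun d hd => (hcommD d hd _).symm
    rw [← map_mul, inv_mul_cancel_right, ← h3] at h5
    exact mul_inv_eq_one.1 (mul_eq_right.1 h5.symm)
  have := congrArg Subtype.val (mul_inv_eq_one.1 hu)
  exact mul_inv_eq_iff_eq_mul.1 this

omit hT hTS T in
/-- Glauberman: the automorphisms fixing `S` pointwise form a group with abelian Sylow 2-subgroups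
and a normal 2-complement. -/
theorem normal_complement_of_fix_sylow (C : Subgroup (MulAut G))
    (hC : ∀ φ ∈ C, ∀ s ∈ (S : Subgroup G), φ s = s) (T : Sylow 2 C) :
    (∀ a b : T, a * b = b * a) ∧ ∃ N : Subgroup C, N.Normal ∧ IsComplement' N (T : Subgroup C) := by
  haveI : Fact (Nat.Prime 2) := ⟨Nat.prime_two⟩
  haveI := finite_mulAut (G := G)
  set T' := (T : Subgroup C).map C.subtype with hT'
  have hTp : IsPGroup 2 T' := T.isPGroup'.map _
  have hfix : ∀ a ∈ T', ∀ s ∈ (S : Subgroup G), a s = s := by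
    rintro _ ⟨a, -, rfl⟩; exact hC _ a.2
  have hab := commute_of_fix_sylow T' hO S hTp hfix
  have habT : ∀ a b : T, a * b = b * a := fun a b => Subtype.ext (Subtype.ext
    (congrArg Subtype.val (hab ⟨_, mem_map_of_mem _ a.2⟩ ⟨_, mem_map_of_mem _ b.2⟩) :
      ((a : C) : MulAut G) * ((b : C) : MulAut G) = ((b : C) : MulAut G) * ((a : C) : MulAut G)))
  refine ⟨habT, ?_⟩
  have hle : normalizer ((T : Subgroup C) : Set C) ≤ centralizer ((T : Subgroup C) : Set C) := by
    intro c hc
    refine mem_centralizer_iff.2 fun a ha => Subtype.ext ?_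
    refine (commute_of_normalizes T' hO S hTp hfix (hC _ c.2) (fun b => ?_) (mem_map_of_mem _ ha)).symm
    constructor
    · rintro ⟨b, hb, rfl⟩
      exact ⟨_, (mem_normalizer_iff.1 hc b).1 hb, rfl⟩
    · rintro ⟨b, hb, hbe⟩
      exact ⟨c⁻¹ * b * c, (mem_normalizer_iff.1 hc _).2 (by group; exact hb), by
        show (c : MulAut G)⁻¹ * C.subtype b * c = _
        rw [hbe]; group⟩
  exact ⟨_, MonoidHom.normal_ker _, MonoidHom.ker_transferSylow_isComplement' T hle⟩

omit hT hTS T in
/-- Glauberman: the automorphisms fixing `S` pointwise form a solvable group, given the solvability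
of groups of odd order. -/
theorem isSolvable_of_fix_sylow
    (hodd : ∀ (N : Type u) [Group N] [Finite N], Odd (Nat.card N) → Group.IsSolvable N)
    (C : Subgroup (MulAut G)) (hC : ∀ φ ∈ C, ∀ s ∈ (S : Subgroup G), φ s = s) :
    Group.IsSolvable C := by
  haveI : Fact (Nat.Prime 2) := ⟨Nat.prime_two⟩
  haveI := finite_mulAut (G := G)
  obtain ⟨T⟩ : Nonempty (Sylow 2 C) := inferInstance
  obtain ⟨-, N, hN, hcompl⟩ := normal_complement_of_fix_sylow hO S C hC T
  haveI := hN
  have hNodd : Odd (Nat.card N) := by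
    rw [← hcompl.index_eq_card]
    exact Nat.not_even_iff_odd.1 fun h => T.not_dvd_index h.two_dvd
  haveI := hodd N hNodd
  haveI : Group.IsNilpotent (C ⧸ N) := by
    refine (IsPGroup.of_card (p := 2) (n := (Nat.card (T : Subgroup C)).factorization 2) ?_).isNilpotent
    show N.index = _
    rw [hcompl.symm.index_eq_card]
    obtain ⟨k, hk⟩ := IsPGroup.iff_card.mp T.isPGroup'
    rw [hk, Nat.Prime.factorization_pow Nat.prime_two]; simp
  exact solvable_of_ker_le_range N.subtype (QuotientGroup.mk' N)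
    (by rw [QuotientGroup.ker_mk', Subgroup.range_subtype])

end Cfsg.Agent.GlauberAut
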