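import Cfsg.Agent.Lib.Transfer.Centric

/-!
# Fusion in a Sylow 2-subgroup `S × T` of a split extension `G T`

* `isolated_of_fixed`: a central element of `T` fixed by the elements of `G` normalising a subgroup
  `D × T` is not fused to another element of the Sylow subgroup.
-/

set_option autoImplicit false

namespace Cfsg.Agent.GlauberAut

open Subgroup Transfer

variable {X : Type*} [Group X] (G T : Subgroup X)

/-- `n` moves every element of `T` inside `D`, centrally in `D`. -/
def Shifts (D : Subgroup X) (n : X) : Prop :=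
  ∀ a ∈ T, n * a * n⁻¹ * a⁻¹ ∈ D ⊓ centralizer (D : Set X)

/-- `t` is fixed by all the elements of `G` shifting `T` in a subgroup `D` of `S`. -/
def Fixed (S : Subgroup X) (t : X) : Prop :=
  ∀ (D : Subgroup X) (n : X), D ≤ S → n ∈ G → n ∈ normalizer (D : Set X) → Shifts T D n →
    (∀ e ∈ G, e ∈ centralizer (D : Set X) → Shifts T D e → ∀ a ∈ T, e * a = a * e) →
    n * t * n⁻¹ = t

theorem shifts_map {D : Subgroup X} {n : X} (h : Shifts T D n) {a b : X} (ha : a ∈ T) (hb : b ∈ T)
    (hc : ∀ d ∈ D, a * d = d * a) :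
    n * (a * b) * n⁻¹ * (a * b)⁻¹ = n * a * n⁻¹ * a⁻¹ * (n * b * n⁻¹ * b⁻¹) := by
  have h1 := hc _ (h b hb).1
  calc n * (a * b) * n⁻¹ * (a * b)⁻¹
      = n * a * n⁻¹ * a⁻¹ * (a * (n * b * n⁻¹ * b⁻¹) * a⁻¹) := by group
    _ = n * a * n⁻¹ * a⁻¹ * (n * b * n⁻¹ * b⁻¹) := by rw [h1, mul_inv_cancel_right]

variable [Finite X] [G.Normal] (P : Sylow 2 X)

theorem isolated_of_fixed (hTP : T ≤ (P : Subgroup X)) (hTG : T ⊓ G = ⊥) (htop : G ⊔ T = ⊤)
    (hcomm : ∀ s ∈ (P : Subgroup X) ⊓ G, ∀ a ∈ T, s * a = a * s)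
    {t : X} (ht : t ∈ T) (htc : ∀ a ∈ T, t * a = a * t)
    (hfix : Fixed G T ((P : Subgroup X) ⊓ G) t) :
    ∀ g : X, g * t * g⁻¹ ∈ (P : Subgroup X) → g * t * g⁻¹ = t := by
  haveI : Fact (Nat.Prime 2) := ⟨Nat.prime_two⟩
  have hdec : ∀ r ∈ (P : Subgroup X), ∃ s ∈ (P : Subgroup X) ⊓ G, ∃ a ∈ T, r = s * a := by
    intro r hr
    obtain ⟨g, hg, a, ha, rfl⟩ := mem_sup_of_normal_left.mp (htop ▸ mem_top r : r ∈ G ⊔ T)
    exact ⟨g, mem_inf.mpr ⟨mul_inv_cancel_right g a ▸ mul_mem hr (inv_mem (hTP ha)), hg⟩, a, ha, rfl⟩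
  have hcen : ∀ r ∈ (P : Subgroup X), r * t * r⁻¹ = t := by
    intro r hr
    obtain ⟨s, hs, a, ha, rfl⟩ := hdec r hr
    calc s * a * t * (s * a)⁻¹ = s * (a * t) * a⁻¹ * s⁻¹ := by group
      _ = s * t * s⁻¹ := by rw [← htc a ha]; group
      _ = t := by rw [hcomm s hs t ht, mul_inv_cancel_right]
  have hodd : ∀ x : X, Nat.Coprime (orderOf x) 2 → x ∈ G := by
    intro x hx
    obtain ⟨g, hg, a, ha, hga⟩ := mem_sup_of_normal_left.mp (htop ▸ mem_top x : x ∈ G ⊔ T)
    obtain ⟨k, hk⟩ := IsPGroup.iff_orderOf.mp (P.2.to_le hTP) ⟨a, ha⟩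
    rw [Subgroup.orderOf_mk] at hk
    have hq : (x : X ⧸ G) = (a : X ⧸ G) := by
      rw [← hga, QuotientGroup.mk_mul, (QuotientGroup.eq_one_iff g).2 hg, one_mul]
    have h1 : orderOf (x : X ⧸ G) ∣ orderOf x := orderOf_map_dvd (QuotientGroup.mk' G) x
    have h2 : orderOf (x : X ⧸ G) ∣ 2 ^ k := by
      rw [hq, ← hk]; exact orderOf_map_dvd (QuotientGroup.mk' G) a
    exact (QuotientGroup.eq_one_iff x).1
      (orderOf_eq_one_iff.1 (Nat.eq_one_of_dvd_coprimes (hx.pow_right k) h1 h2))
  suffices key : ∀ d : ℕ, ∀ R : Subgroup X, Nat.card (P : Subgroup X) - Nat.card R = d →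
      IsFullyNormalized 2 (P : Subgroup X) R → t ∈ R → ∀ n ∈ normalizer (R : Set X),
      n * t * n⁻¹ = t by
    intro g hg
    have hch : FusionChain 2 (P : Subgroup X) (zpowers t) g :=
      fusionChain P (zpowers_le.mpr (hTP ht))
        (by rw [MonoidHom.map_zpowers]; exact zpowers_le.mpr hg)
    have : ∀ {Q : Subgroup X} {g : X}, FusionChain 2 (P : Subgroup X) Q g → t ∈ Q →
        g * t * g⁻¹ = t := by
      intro Q g h
      induction h with
      | step h1 h2 h3 => exact fun htQ => key _ _ rfl h2 (h1 htQ) _ h3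
      | @trans Q a b h1 h2 ih1 ih2 =>
        intro htQ
        have h := ih1 htQ
        have hb := ih2 (h ▸ (mem_map_of_mem (MulAut.conj a).toMonoidHom htQ :
          a * t * a⁻¹ ∈ Q.map (MulAut.conj a).toMonoidHom))
        rw [show b * a * t * (b * a)⁻¹ = b * (a * t * a⁻¹) * b⁻¹ by group, h, hb]
    exact this hch (mem_zpowers t)
  intro d
  induction d using Nat.strong_induction_on with
  | _ d ih =>
    intro R hd hR htR n hn
    -- fusion of larger subgroups fixes `t`
    have hbig : ∀ {Q : Subgroup X} {g : X}, FusionChain 2 (P : Subgroup X) Q g →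
        Nat.card R < Nat.card Q → t ∈ Q → g * t * g⁻¹ = t := by
      intro Q g h
      induction h with
      | @step Q R' n' h1 h2 h3 =>
        intro hlt htQ
        refine ih _ ?_ R' rfl h2 (h1 htQ) _ h3
        have := card_le_of_le h1
        have := card_le_of_le h2.1
        omega
      | @trans Q a b h1 h2 ih1 ih2 =>
        intro hlt htQ
        have h := ih1 hlt htQ
        have hb := ih2 (by rwa [card_map_conj]) (h ▸ (mem_map_of_mem (MulAut.conj a).toMonoidHom htQ :
          a * t * a⁻¹ ∈ Q.map (MulAut.conj a).toMonoidHom))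
        rw [show b * a * t * (b * a)⁻¹ = b * (a * t * a⁻¹) * b⁻¹ by group, h, hb]
    set N := normalizer (R : Set X) with hN
    set D := R ⊓ G with hD
    have hDnorm : ∀ x ∈ N, x ∈ normalizer (D : Set X) := fun x hx => by
      rw [← map_conj_eq_iff_mem_normalizer, hD, Subgroup.map_inf _ _ _ (MulAut.conj x).injective,
        map_conj_eq_iff_mem_normalizer.mpr hx,
        map_conj_eq_iff_mem_normalizer.mpr (by rw [normalizer_eq_top]; exact mem_top x)]
    set M := N ⊓ centralizer (D : Set X) with hM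
    set L := (P : Subgroup X) ⊓ M with hL
    haveI hMn : (M.subgroupOf N).Normal := by
      refine ⟨fun m hm x => ?_⟩
      refine mem_subgroupOf.mpr ⟨(x * m * x⁻¹).2, mem_centralizer_iff.mpr fun y hy => ?_⟩
      have hy' : (x : X)⁻¹ * y * x ∈ D := by
        have := (mem_normalizer_iff.mp (hDnorm _ (inv_mem x.2)) y).mp hy
        rwa [inv_inv] at this
      have h := mem_centralizer_iff.mp (mem_subgroupOf.mp hm).2 _ hy'
      calc y * ((x : X) * m * (x : X)⁻¹) = x * ((x : X)⁻¹ * y * x * m) * (x : X)⁻¹ := by group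
        _ = x * (m * ((x : X)⁻¹ * y * x)) * (x : X)⁻¹ := by rw [h]
        _ = (x : X) * m * (x : X)⁻¹ * y := by group
    have hLi : ¬ 2 ∣ L.relIndex M := by
      have h := not_dvd_relIndex_inf (p := 2) (P := ((P : Subgroup X) ⊓ N).subgroupOf N)
        (C := M.subgroupOf N) hR.2
      rw [relIndex_subgroupOf (show M ≤ N from inf_le_left)] at h
      rw [hL, inf_relIndex_right]
      rwa [← inf_relIndex_right, inf_assoc,
        inf_eq_right.mpr (show M ≤ N from inf_le_left), inf_relIndex_right] at h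
    -- elements of `M` act on `R` as elements of `L`
    have hM_act : ∀ m ∈ M, ∃ l ∈ L, ∀ r ∈ R, m * r * m⁻¹ = l * r * l⁻¹ := by
      intro m hm
      obtain ⟨l, hl, c, hc, hlc⟩ := mem_sup_of_normal_right.mp
        ((sup_pResidual_eq_top (H := L.subgroupOf M) hLi).symm ▸ mem_top (⟨m, hm⟩ : M))
      have hcl : (c : X) ∈ centralizer (R : Set X) := by
        have h1 : (pResidual 2 M).map M.subtype ≤ centralizer (R : Set X) := by
          rw [map_pResidual_subtype]
          refine (closure_le _).mpr fun x hx => mem_centralizer_iff.mpr fun r hr => ?_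
          obtain ⟨hxM, hxco⟩ := hx
          have hxG := hodd x hxco
          set e := r⁻¹ * (x * r * x⁻¹) with he
          have heD : e ∈ D := mem_inf.mpr ⟨mul_mem (inv_mem hr) ((mem_normalizer_iff.mp hxM.1 r).mp hr), by
            rw [he, show r⁻¹ * (x * r * x⁻¹) = (r⁻¹ * x * r⁻¹⁻¹) * x⁻¹ by group]
            exact mul_mem (Normal.conj_mem inferInstance x hxG _) (inv_mem hxG)⟩
          have hxe : x * e * x⁻¹ = e := by
            rw [← mem_centralizer_iff.mp hxM.2 e heD, mul_inv_cancel_right]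
          have hpow : ∀ k : ℕ, x ^ k * r * (x ^ k)⁻¹ = r * e ^ k := by
            intro k
            induction k with
            | zero => simp
            | succ k ihk =>
              rw [show x ^ (k + 1) * r * (x ^ (k + 1))⁻¹ = x * (x ^ k * r * (x ^ k)⁻¹) * x⁻¹ by
                rw [pow_succ']; group, ihk,
                show x * (r * e ^ k) * x⁻¹ = (x * r * x⁻¹) * (x * e * x⁻¹) ^ k by rw [conj_pow]; group,
                hxe, show x * r * x⁻¹ = r * e by rw [he, mul_inv_cancel_left], mul_assoc, ← pow_succ']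
          have he1 : e ^ orderOf x = 1 := by
            have := hpow (orderOf x)
            rw [pow_orderOf_eq_one, one_mul, inv_one, mul_one] at this
            exact (mul_eq_left.mp this.symm)
          obtain ⟨k, hk⟩ := IsPGroup.iff_orderOf.mp P.2 ⟨e, hR.1 heD.1⟩
          rw [Subgroup.orderOf_mk] at hk
          have : e = 1 := orderOf_eq_one_iff.1 (Nat.eq_one_of_dvd_coprimes (hxco.pow_right k)
            (orderOf_dvd_of_pow_eq_one he1) hk.dvd)
          have h' : x * r * x⁻¹ = r := by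
            have := mul_inv_cancel_left r (x * r * x⁻¹)
            rw [← he, ‹e = 1›, mul_one] at this
            exact this.symm
          exact (mul_inv_eq_iff_eq_mul.mp h').symm
        exact h1 ⟨c, hc, rfl⟩
      refine ⟨l, mem_subgroupOf.mp hl, fun r hr => ?_⟩
      rw [show m = (l : X) * c from (congrArg Subtype.val hlc).symm,
        show (l : X) * c * r * ((l : X) * c)⁻¹ = l * (c * r * (c : X)⁻¹) * (l : X)⁻¹ by group,
        ← mem_centralizer_iff.mp hcl r hr, mul_inv_cancel_right]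
    by_cases hLR : L ≤ R
    · -- `R = D × T`
      have hnormT : ∀ a ∈ T, a ∈ N → a ∈ R := fun a ha haN => hLR ⟨hTP ha, haN,
        mem_centralizer_iff.mpr fun y hy => hcomm y ⟨hR.1 hy.1, hy.2⟩ a ha⟩
      have hnormT' : ∀ a ∈ T, (∀ r ∈ R, a * r * a⁻¹ ∈ R) → a ∈ R := fun a ha h =>
        hnormT a ha (map_conj_eq_iff_mem_normalizer.mp (eq_of_le_of_card_ge
          (by rintro _ ⟨r, hr, rfl⟩; exact h r hr) (card_map_conj _ _).ge))
      set Q := T ⊓ R with hQ
      have hTp : IsPGroup 2 T := P.2.to_le hTP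
      -- the projection of `R` to `T`
      let TR : Subgroup X :=
        { carrier := {a | a ∈ T ∧ ∃ s ∈ (P : Subgroup X) ⊓ G, s * a ∈ R}
          one_mem' := ⟨one_mem _, 1, one_mem _, by rw [mul_one]; exact one_mem _⟩
          mul_mem' := by
            rintro a b ⟨ha, s, hs, hsa⟩ ⟨hb, u, hu, hub⟩
            refine ⟨mul_mem ha hb, s * u, mul_mem hs hu, ?_⟩
            rw [show s * u * (a * b) = s * (u * a) * b by group, hcomm u hu a ha,
              show s * (a * u) * b = s * a * (u * b) by group]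
            exact mul_mem hsa hub
          inv_mem' := by
            rintro a ⟨ha, s, hs, hsa⟩
            refine ⟨inv_mem ha, s⁻¹, inv_mem hs, ?_⟩
            rw [hcomm _ (inv_mem hs) _ (inv_mem ha), ← mul_inv_rev]
            exact inv_mem hsa }
      have hTRT : TR ≤ T := fun a ha => ha.1
      have hQTR : Q ≤ TR := fun a ha => ⟨ha.1, 1, one_mem _, by rw [one_mul]; exact ha.2⟩
      haveI hQn : (Q.subgroupOf TR).Normal := by
        refine ⟨fun q hq b => ?_⟩
        obtain ⟨hb, s, hs, hsb⟩ := b.2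
        have hq' := mem_subgroupOf.mp hq
        have hbq : (b : X) * q * (b : X)⁻¹ ∈ T := mul_mem (mul_mem hb hq'.1) (inv_mem hb)
        refine mem_subgroupOf.mpr ⟨hbq, ?_⟩
        have := mul_mem (mul_mem hsb hq'.2) (inv_mem hsb)
        rwa [show s * (b : X) * q * (s * (b : X))⁻¹ = s * ((b : X) * q * (b : X)⁻¹) * s⁻¹ by group,
          hcomm s hs _ hbq, mul_inv_cancel_right] at this
      have hTRQ : TR ≤ Q := by
        by_contra hne
        haveI : Nontrivial (TR ⧸ Q.subgroupOf TR) := QuotientGroup.nontrivial_iff.mpr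
          fun h => hne (subgroupOf_eq_top.mp h)
        haveI := ((hTp.to_le hTRT).to_quotient (Q.subgroupOf TR)).center_nontrivial
        obtain ⟨z, hz⟩ := exists_ne (1 : center (TR ⧸ Q.subgroupOf TR))
        obtain ⟨a, ha⟩ := QuotientGroup.mk_surjective (z : TR ⧸ Q.subgroupOf TR)
        have haR : (a : X) ∈ R := hnormT' _ a.2.1 fun r hr => by
          obtain ⟨s, hs, b, hb, rfl⟩ := hdec r (hR.1 hr)
          have h1 := mem_center_iff.mp z.2 ((⟨b, hb, s, hs, hr⟩ : TR) : TR ⧸ Q.subgroupOf TR)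
          rw [← ha, ← QuotientGroup.mk_mul, ← QuotientGroup.mk_mul, QuotientGroup.eq] at h1
          have h2 := (mem_subgroupOf.mp (hQn.conj_mem _ h1 a)).2
          simp only [Subgroup.coe_mul, Subgroup.coe_inv, mul_inv_rev] at h2
          have h3 : (a : X) * (s * b) * (a : X)⁻¹ = s * b * ((a : X) * ((a : X)⁻¹ * b⁻¹ * (a * b)) * (a : X)⁻¹) := by
            rw [show (a : X) * (s * b) * (a : X)⁻¹ = (a * s) * b * (a : X)⁻¹ by group,
              ← hcomm s hs _ a.2.1]
            group
          rw [h3]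
          refine mul_mem hr ?_
          exact h2
        exact hz (Subtype.ext (ha ▸ (QuotientGroup.eq_one_iff a).2
          (mem_subgroupOf.mpr ⟨a.2.1, haR⟩)))
      have hRd : ∀ r ∈ R, ∃ s ∈ D, ∃ a ∈ Q, r = s * a := by
        intro r hr
        obtain ⟨s, hs, a, ha, rfl⟩ := hdec r (hR.1 hr)
        have haQ : a ∈ Q := hTRQ ⟨ha, s, hs, hr⟩
        exact ⟨s, mem_inf.mpr ⟨mul_inv_cancel_right s a ▸ mul_mem hr (inv_mem haQ.2), hs.2⟩, a, haQ, rfl⟩
      have hTR : T ≤ R := by
        have htop' : Q.subgroupOf T = ⊤ := by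
          haveI : Group.IsNilpotent T := hTp.isNilpotent
          refine normalizerCondition_iff_only_full_group_self_normalizing.mp
            normalizerCondition_of_isNilpotent _ (le_antisymm ?_ le_normalizer)
          intro b hb
          refine mem_subgroupOf.mpr ⟨b.2, hnormT' _ b.2 fun r hr => ?_⟩
          obtain ⟨s, hs, a, ha, rfl⟩ := hRd r hr
          rw [show (b : X) * (s * a) * (b : X)⁻¹ = (b * s) * a * (b : X)⁻¹ by group,
            ← hcomm s ⟨hR.1 hs.1, hs.2⟩ _ b.2, show s * (b : X) * a * (b : X)⁻¹ =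
              s * ((b : X) * a * (b : X)⁻¹) by group]
          exact mul_mem hs.1 (mem_subgroupOf.mp
            ((mem_normalizer_iff.mp hb ⟨a, ha.1⟩).mp (mem_subgroupOf.mpr ha))).2
        exact fun a ha => (subgroupOf_eq_top.mp htop' ha).2
      obtain ⟨g, hg, a, ha, rfl⟩ := mem_sup_of_normal_left.mp (htop ▸ mem_top n : n ∈ G ⊔ T)
      have hgN : g ∈ N := mul_inv_cancel_right g a ▸ mul_mem hn (inv_mem (le_normalizer (hTR ha) : a ∈ N))
      rw [show g * a * t * (g * a)⁻¹ = g * (a * t * a⁻¹) * g⁻¹ by group, hcen a (hTP ha)]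
      refine hfix D g (fun x hx => ⟨hR.1 hx.1, hx.2⟩) hg (hDnorm _ hgN) (fun b hb => mem_inf.mpr ⟨mem_inf.mpr ⟨?_, ?_⟩, ?_⟩) ?_
      · exact mul_mem ((mem_normalizer_iff.mp hgN b).mp (hTR hb)) (inv_mem (hTR hb))
      · rw [show g * b * g⁻¹ * b⁻¹ = g * (b * g⁻¹ * b⁻¹) by group]
        exact mul_mem hg (Normal.conj_mem inferInstance _ (inv_mem hg) b)
      · refine mem_centralizer_iff.mpr fun y hy => ?_
        have hy' : g⁻¹ * y * g ∈ D := by
          have := (mem_normalizer_iff.mp (hDnorm _ (inv_mem hgN)) y).mp hy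
          rwa [inv_inv] at this
        have h1 := hcomm _ ⟨hR.1 hy'.1, hy'.2⟩ b hb
        have h2 := hcomm y ⟨hR.1 hy.1, hy.2⟩ b⁻¹ (inv_mem hb)
        calc y * (g * b * g⁻¹ * b⁻¹) = g * (g⁻¹ * y * g * b) * g⁻¹ * b⁻¹ := by group
          _ = g * b * g⁻¹ * (y * b⁻¹) := by rw [h1]; group
          _ = g * b * g⁻¹ * b⁻¹ * y := by rw [h2]; group
      · intro e he heC hsh b hb
        have heN : e ∈ N := map_conj_eq_iff_mem_normalizer.mp (eq_of_le_of_card_ge (by
          rintro _ ⟨r, hr, rfl⟩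
          obtain ⟨s, hs, c, hc, rfl⟩ := hRd r hr
          show e * (s * c) * e⁻¹ ∈ R
          rw [show e * (s * c) * e⁻¹ = (e * s * e⁻¹) * ((e * c * e⁻¹ * c⁻¹) * c) by group,
            ← mem_centralizer_iff.mp heC s hs, mul_inv_cancel_right]
          exact mul_mem hs.1 (mul_mem (hsh c hc.1).1.1 hc.2)) (card_map_conj _ _).ge)
        obtain ⟨l, hl, hle⟩ := hM_act e ⟨heN, heC⟩
        obtain ⟨s, hs, c, hc, rfl⟩ := hRd l (hLR hl)
        have h1 := hle b (hTR hb)
        have hcb : c * b * c⁻¹ ∈ T := mul_mem (mul_mem hc.1 hb) (inv_mem hc.1)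
        rw [show s * c * b * (s * c)⁻¹ = s * (c * b * c⁻¹) * s⁻¹ by group,
          hcomm s ⟨hR.1 hs.1, hs.2⟩ _ hcb, mul_inv_cancel_right] at h1
        have h2 : c * b * c⁻¹ * b⁻¹ ∈ T ⊓ G := mem_inf.mpr ⟨mul_mem hcb (inv_mem hb), by
          rw [← h1, show e * b * e⁻¹ * b⁻¹ = e * (b * e⁻¹ * b⁻¹) by group]
          exact mul_mem he (Normal.conj_mem inferInstance _ (inv_mem he) b)⟩
        rw [hTG, mem_bot, mul_inv_eq_one] at h2
        rw [h2] at h1
        exact mul_inv_eq_iff_eq_mul.mp h1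
    · -- a larger subgroup
      set R' := R ⊔ L with hR'
      have hlt : Nat.card R < Nat.card R' := by
        refine lt_of_le_of_ne (card_le_of_le le_sup_left) fun h => hLR ?_
        exact le_sup_right.trans (eq_of_le_of_card_ge le_sup_left h.ge).ge
      have hR'P : R' ≤ (P : Subgroup X) := sup_le hR.1 inf_le_left
      set C := M.subgroupOf N
      have hLp : IsPGroup 2 ((L.subgroupOf N).subgroupOf C) :=
        ((P.2.to_le inf_le_left).comap_of_injective N.subtype N.subtype_injective).comap_of_injective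
          C.subtype C.subtype_injective
      have hLidx : ¬ 2 ∣ ((L.subgroupOf N).subgroupOf C).index := by
        show ¬ 2 ∣ (L.subgroupOf N).relIndex (M.subgroupOf N)
        rw [relIndex_subgroupOf (show M ≤ N from inf_le_left)]
        exact hLi
      have hsup := Sylow.normalizer_sup_eq_top (hLp.toSylow hLidx)
      obtain ⟨b, hb, m, hm, hbm⟩ := mem_sup_of_normal_right.mp (hsup ▸ mem_top (⟨n, hn⟩ : N))
      rw [IsPGroup.toSylow_coe, subgroupOf_map_subtype,
        inf_eq_left.mpr (show L.subgroupOf N ≤ C from comap_mono inf_le_right)] at hb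
      have hbL : (b : X) ∈ normalizer (L : Set X) := by
        refine map_conj_eq_iff_mem_normalizer.mp (eq_of_le_of_card_ge ?_ (card_map_conj _ _).ge)
        rintro _ ⟨x, hx, rfl⟩
        exact mem_subgroupOf.mp ((mem_normalizer_iff.mp hb ⟨x, hx.2.1⟩).mp (mem_subgroupOf.mpr hx))
      have hbR' : R'.map (MulAut.conj (b : X)).toMonoidHom = R' := by
        rw [hR', Subgroup.map_sup, map_conj_eq_iff_mem_normalizer.mpr b.2,
          map_conj_eq_iff_mem_normalizer.mpr hbL]
      have htb := hbig (fusionChain P hR'P (g := (b : X)) (hbR'.le.trans hR'P)) hlt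
        (mem_sup_left htR)
      obtain ⟨l, hl, hlm⟩ := hM_act m (mem_subgroupOf.mp hm)
      rw [show n = (b : X) * m from (congrArg Subtype.val hbm).symm,
        show (b : X) * m * t * ((b : X) * m)⁻¹ = b * (m * t * (m : X)⁻¹) * (b : X)⁻¹ by group,
        hlm t htR, hcen l hl.1, htb]

end Cfsg.Agent.GlauberAut
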