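import Cfsg.Agent.Lib.GlauberAut.Aut

/-!
# The outer automorphism group through the Sylow 2-normaliser

* `stab`, `resHom`: automorphisms leaving `S` invariant and their restriction to `S`.
* `out_surjective`: they cover `Out G`.
* `out_solvable`: `Out G` is solvable if their image in `Aut S` is, given the solvability of groups
  of odd order.
-/

set_option autoImplicit false
open Cfsg

namespace Cfsg.Agent.GlauberAut

open Subgroup

universe u

variable {G : Type u} [Group G] [Finite G] (S : Sylow 2 G)

/-- The automorphisms leaving `S` invariant. -/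
def stab : Subgroup (MulAut G) where
  carrier := {f | ∀ x, f x ∈ (S : Subgroup G) ↔ x ∈ (S : Subgroup G)}
  one_mem' := fun _ => Iff.rfl
  mul_mem' := fun {f g} hf hg x => (hf (g x)).trans (hg x)
  inv_mem' := fun {f} hf x => by
    rw [← hf (f⁻¹ x), MulAut.apply_inv_self]

/-- Restriction to `S`. -/
def resHom : stab S →* MulAut (S : Subgroup G) where
  toFun f :=
    { toFun := fun x => ⟨(f : MulAut G) (x : G), (f.2 x).2 x.2⟩
      invFun := fun x => ⟨((f : MulAut G)⁻¹) (x : G), ((stab S).inv_mem f.2 x).2 x.2⟩
      left_inv := fun x => Subtype.ext (MulAut.inv_apply_self G f x)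
      right_inv := fun x => Subtype.ext (MulAut.apply_inv_self G f x)
      map_mul' := fun x y => Subtype.ext (map_mul (f : MulAut G) (x : G) y) }
  map_one' := MulEquiv.ext fun _ => rfl
  map_mul' _ _ := MulEquiv.ext fun _ => rfl

theorem resHom_apply (f : stab S) (x : (S : Subgroup G)) :
    (resHom S f x : G) = (f : MulAut G) x := rfl

theorem out_surjective :
    Function.Surjective ((QuotientGroup.mk' (Cfsg.Inn G)).comp (stab S).subtype) := by
  haveI : Fact (Nat.Prime 2) := ⟨Nat.prime_two⟩
  intro q
  obtain ⟨f, rfl⟩ := QuotientGroup.mk_surjective q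
  obtain ⟨R, hR⟩ := (S.isPGroup'.map (f : MulAut G).toMonoidHom).exists_le_sylow
  have hRS : (S : Subgroup G).map (f : MulAut G).toMonoidHom = R := by
    refine eq_of_le_of_card_ge hR ?_
    rw [card_map_of_injective (f : MulAut G).injective, Sylow.card_eq_multiplicity R,
      Sylow.card_eq_multiplicity S]
  obtain ⟨g, hg⟩ := MulAction.exists_smul_eq G R S
  have hmap : (S : Subgroup G).map ((MulAut.conj g * f : MulAut G)).toMonoidHom = S := by
    rw [show ((MulAut.conj g * f : MulAut G)).toMonoidHom
      = (MulAut.conj g).toMonoidHom.comp (f : MulAut G).toMonoidHom from rfl, ← map_map, hRS]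
    conv_rhs => rw [← hg]
    rfl
  refine ⟨⟨MulAut.conj g * f, fun x => ?_⟩, ?_⟩
  · conv_lhs => rw [← hmap]
    exact mem_map_iff_mem (MulAut.conj g * f : MulAut G).injective
  · show QuotientGroup.mk' (Cfsg.Inn G) (MulAut.conj g * f) = QuotientGroup.mk' (Cfsg.Inn G) f
    rw [map_mul, show QuotientGroup.mk' (Cfsg.Inn G) (MulAut.conj g) = 1 from
      (QuotientGroup.eq_one_iff _).2 ⟨g, rfl⟩, one_mul]

theorem pPrimeCore_eq_bot [IsSimpleGroup G] (hS1 : (S : Subgroup G) ≠ ⊥) : pPrimeCore 2 G = ⊥ := by
  haveI : Fact (Nat.Prime 2) := ⟨Nat.prime_two⟩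
  refine (IsSimpleGroup.eq_bot_or_eq_top_of_normal _ (Cores.pPrimeCore_normal 2 G)).resolve_right
    fun h => hS1 ?_
  have h2 := Cores.coprime_card_pPrimeCore (G := G) 2
  rw [h, card_top] at h2
  obtain ⟨k, hk⟩ := IsPGroup.iff_card.1 S.isPGroup'
  rw [← card_eq_one]
  refine Nat.eq_one_of_dvd_coprimes (h2.pow_right k) (card_subgroup_dvd_card _) ?_
  rw [hk]

/-- `Out G` is solvable when the image of the `S`-invariant automorphisms in `Aut S` is. -/
theorem out_solvable (hO : pPrimeCore 2 G = ⊥)
    (hodd : ∀ (N : Type u) [Group N] [Finite N], Odd (Nat.card N) → Group.IsSolvable N)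
    (hS : Group.IsSolvable (resHom S).range) : Group.IsSolvable (Cfsg.Out G) := by
  haveI := hS
  set C := (resHom S).ker.map (stab S).subtype with hC
  haveI : Group.IsSolvable C := isSolvable_of_fix_sylow hO S hodd C (by
    rintro _ ⟨f, hf, rfl⟩ s hs
    exact congrArg Subtype.val (DFunLike.congr_fun hf (⟨s, hs⟩ : (S : Subgroup G))))
  haveI : Group.IsSolvable (resHom S).ker :=
    solvable_of_solvable_injective (f := ((resHom S).ker.equivMapOfInjective (stab S).subtype
      (stab S).subtype_injective).toMonoidHom) (MulEquiv.injective _)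
  haveI : Group.IsSolvable (stab S) :=
    solvable_of_ker_le_range (resHom S).ker.subtype (resHom S).rangeRestrict
      (by rw [MonoidHom.ker_rangeRestrict, range_subtype])
  exact solvable_of_surjective (out_surjective S)

/-- The `S3065` statement, given the solvability of groups of odd order. -/
theorem out_solvable_of_aut_sylow
    (hodd : ∀ (N : Type u) [Group N] [Finite N], Odd (Nat.card N) → Group.IsSolvable N)
    [IsSimpleGroup G] (hS1 : (S : Subgroup G) ≠ ⊥)
    (hS : Group.IsSolvable (MulAut (S : Subgroup G))) : Group.IsSolvable (Cfsg.Out G) :=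
  haveI := hS
  out_solvable S (pPrimeCore_eq_bot S hS1) hodd
    (solvable_of_solvable_injective (f := (resHom S).range.subtype) (subtype_injective _))

end Cfsg.Agent.GlauberAut
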